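import Cfsg.Agent.FT.PF10.Noncoh
import Cfsg.Agent.FT.BG1.Coprime
import Cfsg.Agent.FT.Img
import Cfsg.Agent.FT.PF6

/-! Peterfalvi (10.10), in abstract form. -/

set_option autoImplicit false

open Pointwise Cfsg Cfsg.Lib.Solv
open scoped ComplexConjugate

namespace Cfsg.Lib.FT

variable {G : Type*} [Group G] [Finite G] {M K W W₁ W₂ : Subgroup G} {A₀ : Set G}
  {R : G → Subgroup G} {ζ : G → ℂ} {τ₁ : (G → ℂ) →ₗ[ℂ] (G → ℂ)}

local notation "d" => FTtype345_TIirr_degree M W₁ W₂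
local notation "δ" => FTtype345_TIsign M W₁ W₂
local notation "n" => FTtype345_ratio M W₁ W₂

/-- `W₁` acts regularly on `K / N` for `W₂ ≤ N`. -/
theorem PrimeTIHyp.regular_mod (h : PrimeTIHyp M K W W₁ W₂) {N : Subgroup G} (nsN : N ⊲ M)
    (sW₂ : W₂ ≤ N) {w x : G} (hw : w ∈ W₁) (hw1 : w ≠ 1) (hx : x ∈ K)
    (hc : w * x * w⁻¹ * x⁻¹ ∈ N) : x ∈ N := by
  have := nsN.subgroupOf
  have hwM := h.sdprod.le_right hw
  have hxM := h.sdprod.le_left hx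
  have hA : Subgroup.zpowers w ≤ W₁ := (Subgroup.zpowers_le).2 hw
  have h1 := coprime_quotient_cent (qmk M N) (hA.trans h.sdprod.le_right) h.sdprod.le_left
    (hA.trans h.sdprod.norm) (coprimeSg inf_le_left (coprimegS hA h.coprime_K))
    (Or.inl (abelian_sol (abelian_zpowers w)))
  rw [cent_zpowers, h.cent w hw hw1, (img_qmk_eq_bot_iff (sW₂.trans nsN.le)).2 sW₂,
    img_zpowers hwM, cent_zpowers] at h1
  have h2 : qmk M N ⟨x, hxM⟩ ∈ (⊥ : Subgroup _) := by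
    rw [h1]
    refine ⟨mem_img_of_mem _ hxM hx, mem_cent1.2 ?_⟩
    have h3 : qmk M N (⟨w, hwM⟩ * ⟨x, hxM⟩ * ⟨w, hwM⟩⁻¹ * ⟨x, hxM⟩⁻¹) = 1 := qmk_eq_one.2 hc
    rw [map_mul, map_mul, map_mul, map_inv, map_inv, mul_inv_eq_one, mul_inv_eq_iff_eq_mul] at h3
    exact h3.symm
  exact qmk_eq_one.1 (Subgroup.mem_bot.1 h2)

/-- Bessel's inequality for the image of a coherent set of irreducible characters. -/
theorem CoherentWith.bessel {S : Finset (G → ℂ)} {A : Set G} {τ : (G → ℂ) →ₗ[ℂ] (G → ℂ)}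
    (coh : CoherentWith M ⊤ S A τ τ₁) (irr : S ⊆ Irr M) (β : G → ℂ) :
    ∑ φ ∈ S, ‖dot ⊤ β (τ₁ φ)‖ ^ 2 ≤ nrm ⊤ β := by
  have h1 : OrthoN ⊤ ((S.image τ₁ : Finset (G → ℂ)) : Set (G → ℂ)) := by
    rw [Finset.coe_image]
    exact IsoOn.orthoN_image (L₁ := M) (U := S) (fun φ hφ ψ hψ => coh.dot_map hφ hψ) subset_rfl
      (orthoN_of_subset_Irr fun χ hχ => irr hχ)
  have h2 := h1.sum_norm_dot_sq_le β
  rwa [Finset.sum_image fun φ hφ ψ hψ e => coh.injOn (mem_ZS hφ) (mem_ZS hψ) e] at h2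

/-- Steps (10.10.3) and (10.10.4). -/
theorem t345_coherent_of_split (h : T345Hyp M K W W₁ W₂ A₀ R) (hlt : Nat.card W₁ < Nat.card W₂)
    (hbig : n ^ 2 + 3 < (seqIndD K M K ⁅K, K⁆).card)
    (hS : ∀ φ ∈ seqIndD K M K ⊥, φ ∈ seqIndD K M K ⁅K, K⁆ ∨
      ∃ j : Hat W₂, j ≠ 1 ∧ φ = primeTIred M W₁ j) :
    Coherent M ⊤ (seqIndD K M K ⊥) {1}ᶜ (Dade A₀ R) := by
  obtain ⟨R₀, scoh⟩ := h.subcoherent
  have sS₁ : CjSubset (seqIndD K M K ⁅K, K⁆) (seqIndD K M K ⊥) := seqInd_conjC_subset1 le_rfl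
  have hirr := fun φ hφ => seqIndD_der_irr h.prTI h.W₂_le (φ := φ) hφ
  obtain ⟨τ₁, coh⟩ := uniform_degree_coherence (subset_subcoherent scoh sS₁)
    fun φ hφ ψ hψ => (hirr φ hφ).2.trans (hirr ψ hψ).2.symm
  obtain ⟨ζ, S₁ζ⟩ := seqIndD_der_nonempty h.prTI h.sol
  obtain ⟨irrζ, ζ1⟩ := hirr ζ S₁ζ
  have Sζ := sS₁.sub S₁ζ
  have hT := seqIndD_subT _ _ _ _ Sζ
  have hd := coh.dirr S₁ζ irrζ
  have oζ := coherent_prDade_ortho_cycTIiso h.dd sS₁ (h.noReal sS₁.sub) coh S₁ζ irrζ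
  have oζ' : ∀ (i : Hat W₁) (j : Hat W₂), dot ⊤ (cycTIeta ⊤ i j) (τ₁ ζ) = 0 :=
    fun i j => dot_eq_zero_comm.1 (oζ i j)
  have tau_alpha : ∀ (i : Hat W₁) (j : Hat W₂), j ≠ 1 → Dade A₀ R (FTtype345_bridge M ζ i j) =
      (δ : ℂ) • (cycTIeta ⊤ i j - cycTIeta ⊤ i (1 : Hat W₂)) - (n : ℂ) • τ₁ ζ := by
    intro i j hj
    refine FTtype345_def_tau_alpha h irrζ ζ1 coh sS₁ S₁ζ i hj ?_
    obtain ⟨c, hc⟩ := vchar_dot_int (vchar_Dade_FTtype345_bridge h Sζ ζ1 i hj) (coh.vc_map S₁ζ)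
    have h1 : ∀ φ ∈ (seqIndD K M K ⁅K, K⁆).erase ζ,
        ‖dot ⊤ (Dade A₀ R (FTtype345_bridge M ζ i j)) (τ₁ φ)‖ ^ 2 = ((c + n : ℤ) : ℝ) ^ 2 := by
      intro φ hφ
      obtain ⟨hne, hφ⟩ := Finset.mem_erase.1 hφ
      obtain ⟨irrφ, φ1⟩ := hirr φ hφ
      have hTφ := seqIndD_subT _ _ _ _ hφ
      have hz := sub_mem_ZSon_compl_one (S := (seqIndD K M K ⁅K, K⁆ : Set (G → ℂ))) hφ S₁ζ
        (φ1.trans ζ1.symm)
      have h2 := Dade_isometry h.dade (supp_FTtype345_bridge h Sζ ζ1 i hj) (h.zson_on sS₁.sub hz)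
      rw [← coh.eq _ hz, map_sub, dot_sub_right, hc, dot_FTtype345_bridge] at h2
      simp only [dot_sub_right, dot_prTIirr_seqIndT_irr h.prTI hT irrζ,
        dot_prTIirr_seqIndT_irr h.prTI hTφ irrφ, dot_irr_self irrζ,
        dot_irr_of_ne irrζ irrφ hne.symm] at h2
      rw [show dot ⊤ (Dade A₀ R (FTtype345_bridge M ζ i j)) (τ₁ φ) = ((c + n : ℤ) : ℂ) by
        push_cast; linear_combination h2, Complex.norm_intCast, sq_abs]
    have h3 := coh.bessel (fun φ hφ => (hirr φ hφ).1) (Dade A₀ R (FTtype345_bridge M ζ i j))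
    rw [← Finset.add_sum_erase _ _ S₁ζ, Finset.sum_congr rfl h1, Finset.sum_const,
      Finset.card_erase_of_mem S₁ζ, nrm_FTtype345_bridge h irrζ Sζ ζ1 i hj, nsmul_eq_mul] at h3
    have h4 : c + n = 0 := by
      by_contra hne
      have h5 : (1 : ℝ) ≤ ((c + n : ℤ) : ℝ) ^ 2 := by
        have := sq_pos_of_ne_zero hne
        exact_mod_cast this
      have h6 : ((n ^ 2 + 3 : ℕ) : ℝ) ≤ ((seqIndD K M K ⁅K, K⁆).card - 1 : ℕ) := by
        exact_mod_cast Nat.le_sub_one_of_lt hbig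
      push_cast at h6
      nlinarith [sq_nonneg ‖dot ⊤ (Dade A₀ R (FTtype345_bridge M ζ i j)) (τ₁ ζ)‖, sq_nonneg (n : ℝ)]
    rw [hc, show c = -(n : ℤ) by omega]
    push_cast
    rfl
  obtain ⟨χ, hχ, Zχ, nχ, oχ⟩ := FTtype345_Dade_bridge0 h irrζ Sζ ζ1 hlt
  have oχ' : ∀ (i : Hat W₁) (j : Hat W₂), dot ⊤ (cycTIeta ⊤ i j) χ = 0 :=
    fun i j => dot_eq_zero_comm.1 (oχ i j)
  have eχ : τ₁ ζ = χ := by
    have hj := h.hatNe_ne
    have h1 := Dade_isometry h.dade (supp_FTtype345_bridge h Sζ ζ1 1 hj)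
      (cfun_onS h.sharp_sub (FTtype345_mu0Bzeta_on h Sζ ζ1))
    rw [tau_alpha 1 _ hj, hχ, dot_FTtype345_bridge] at h1
    simp only [dot_sub_left, dot_sub_right, dot_smul_left, dot_eta_colsum h.cycTI, oχ',
      dot_colsum_eta_eq_zero oζ, cfdot_prTIirr_red h.prTI, dot_prTIirr_seqIndT_irr h.prTI hT irrζ,
      dot_seqIndT_irr_prTIred h.prTI hT irrζ, dot_irr_self irrζ, hj, if_false, if_true] at h1
    have hn : (n : ℂ) ≠ 0 := by
      have := (FTtype345_ratio_even h).2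
      exact Nat.cast_ne_zero.2 (by omega)
    refine (dot_dirr_eq_one hd (vchar_norm1 Zχ nχ)).1 (mul_left_cancel₀ hn ?_)
    linear_combination h1
  refine pivot_coherence scoh Sζ (dirr_vchar hd) (fun η hη hne => ?_)
    ((dirr_dot_self hd).trans (dot_irr_self irrζ).symm)
  rcases hS η hη with hη₁ | ⟨j, hj, rfl⟩
  · refine ⟨1, by rw [(hirr η hη₁).2, ζ1, Nat.cast_one, one_mul], ?_⟩
    have hz := sub_mem_ZSon_compl_one (S := (seqIndD K M K ⁅K, K⁆ : Set (G → ℂ))) hη₁ S₁ζ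
      ((hirr η hη₁).2.trans ζ1.symm)
    rw [Nat.cast_one, one_smul, ← coh.eq _ hz, map_sub, dot_sub_left, coh.dot_map hη₁ S₁ζ,
      coh.dot_map S₁ζ S₁ζ, dot_irr_of_ne (hirr η hη₁).1 irrζ hne]
    ring
  · refine ⟨d, by rw [FTtype345_TIred1 h hj, ζ1, mul_comm], ?_⟩
    rw [← sub_add_cancel (primeTIred M W₁ j - (d : ℂ) • ζ)
      ((δ : ℂ) • (primeTIred M W₁ (1 : Hat W₂) - ζ)), ← sum_FTtype345_bridge h, map_add, map_sum,
      map_smul, hχ, ← eχ, dot_add_left, dot_sum_left]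
    simp only [tau_alpha _ j hj, dot_sub_left, dot_smul_left, oζ', dirr_dot_self hd,
      dot_eq_zero_comm.1 (dot_colsum_eta_eq_zero oζ 1), Finset.sum_const, Finset.card_univ,
      h.cycTI.card_Hat₁, dot_irr_self irrζ, nsmul_eq_mul]
    linear_combination FTtype345_ratioC h

/-- Steps (10.10.1) and (10.10.2). -/
theorem t345_coherent_of_p3 (h : T345Hyp M K W W₁ W₂ A₀ R) {p : ℕ} (hp : p.Prime)
    (hK : Nat.card K = p ^ 3) (hdvd : Nat.card W₁ ∣ p + 1) (hndvd : ¬ Nat.card W₁ ∣ p - 1)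
    (hle : (⁅K, K⁆).relIndex K ≤ 4 * Nat.card W₁ ^ 2 + 1) :
    Coherent M ⊤ (seqIndD K M K ⊥) {1}ᶜ (Dade A₀ R) := by
  have hw₁ := h.w₁_gt2
  have hw₂ := h.w₂_gt2
  have c1 := card_seqIndD_der h.prTI h.W₂_le
  have c2 := card_mul_relIndex_of_le (der_sub K)
  have c3 : Nat.card W₂ ∣ Nat.card ↥⁅K, K⁆ := cardSg h.W₂_le
  obtain ⟨φ₀, hφ₀⟩ := seqIndD_der_nonempty h.prTI h.sol
  have c4 := seqInd_nontrivial h.nsK h.oddM le_rfl hφ₀
  have c5 : (⁅K, K⁆).relIndex K = p ^ 2 := by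
    obtain ⟨k, hk, e⟩ := (Nat.dvd_prime_pow hp).1 (hK ▸ Dvd.intro_left _ c2)
    interval_cases k
    · rw [pow_zero] at e
      nlinarith
    · rw [pow_one] at e
      exact absurd ⟨(seqIndD K M K ⁅K, K⁆).card, by rw [← e, ← c1, mul_comm]; rfl⟩ hndvd
    · exact e
    · rw [e, hK] at c2
      have c6 : Nat.card ↥⁅K, K⁆ = 1 := by
        apply Nat.eq_of_mul_eq_mul_right (pow_pos hp.pos 3)
        rw [c2, one_mul]
      rw [c6, Nat.dvd_one] at c3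
      omega
  have c6 : Nat.card ↥⁅K, K⁆ = p := by
    rw [c5, hK] at c2
    apply Nat.eq_of_mul_eq_mul_right (pow_pos hp.pos 2)
    rw [c2]
    ring
  have c7 : Nat.card W₂ = p := by
    rw [c6] at c3
    exact (Nat.prime_dvd_prime_iff_eq h.prime hp).1 c3
  have c8 : p + 1 = 2 * Nat.card W₁ := by
    obtain ⟨m, hm⟩ := hdvd
    obtain ⟨a, ha⟩ := h.cycTI.W₁_odd
    obtain ⟨b, hb⟩ := h.cycTI.W₂_odd
    rw [c5] at hle
    have h1 : p ≤ 2 * Nat.card W₁ := by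
      by_contra hlt
      have : (2 * Nat.card W₁ + 1) ^ 2 ≤ p ^ 2 := Nat.pow_le_pow_left (by omega) 2
      nlinarith
    have h2 : m < 3 := by
      by_contra hlt
      have : Nat.card W₁ * 3 ≤ Nat.card W₁ * m := Nat.mul_le_mul_left _ (by omega)
      omega
    interval_cases m <;> omega
  have sub : (Finset.univ.erase (1 : Hat W₂)).image (primeTIres M K W₁) ⊆ IrrKerD K ⁅K, K⁆ ⊥ := by
    intro θ hθ
    obtain ⟨j, hj, rfl⟩ := Finset.mem_image.1 hθ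
    exact mem_IrrKerD.2 ⟨prTIres_mem_Irr h.prTI j, bot_le, fun hk =>
      cfker_prTIres_W₂ h.prTI (Finset.mem_erase.1 hj).1 (h.W₂_le.trans hk)⟩
  have s1 := sum_IrrKerD_square (der_normal K) (normal1 K) bot_le
  rw [c5, Subgroup.relIndex_bot_left, c6, ← Finset.sum_sdiff sub,
    Finset.sum_image fun j _ k _ e => prTIres_inj h.prTI e,
    Finset.sum_congr (s₁ := Finset.univ.erase (1 : Hat W₂)) rfl (g := fun _ => d ^ 2) fun j hj => by
      rw [FTtype345_TIres_deg h (Finset.mem_erase.1 hj).1],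
    Finset.sum_const, Finset.card_erase_of_mem (Finset.mem_univ _), Finset.card_univ,
    h.cycTI.card_Hat₂, c7, smul_eq_mul] at s1
  have d1 : p ≤ d := by
    have h1 := irr_deg_dvd_card (prTIres_mem_Irr h.prTI (hatNe W₂))
    rw [FTtype345_TIres_deg h h.hatNe_ne, hK] at h1
    obtain ⟨k, -, e⟩ := (Nat.dvd_prime_pow hp).1 h1
    have h2 := FTtype345_degree_gt1 h
    rw [e] at h2 ⊢
    exact Nat.le_self_pow (by rintro rfl; simp at h2) p
  have d2 : (p - 1) * p ^ 2 ≤ (p - 1) * d ^ 2 := Nat.mul_le_mul_left _ (Nat.pow_le_pow_left d1 2)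
  have d3 : d ≤ p := by
    have h1 : (p - 1) * d ^ 2 ≤ (p - 1) * p ^ 2 := by
      rw [mul_comm _ (p ^ 2), ← s1]
      exact Nat.le_add_left _ _
    exact (Nat.pow_le_pow_iff_left two_ne_zero).1 (Nat.le_of_mul_le_mul_left h1 (by omega))
  have s2 : ∑ θ ∈ IrrKerD K ⁅K, K⁆ ⊥ \ (Finset.univ.erase (1 : Hat W₂)).image (primeTIres M K W₁),
      deg θ ^ 2 = 0 := by
    rw [mul_comm (p ^ 2)] at s1
    omega
  have n2 : n = 2 := by
    have h1 := FTtype345_ratioE h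
    have h2 := FTtype345_TIsign_cases M W₁ W₂
    have h3 := (FTtype345_ratio_even h).2
    by_contra hne
    have h4 : 3 * Nat.card W₁ ≤ n * Nat.card W₁ := Nat.mul_le_mul_right _ (by omega)
    have h5 : ((3 * Nat.card W₁ : ℕ) : ℤ) ≤ (n * Nat.card W₁ : ℕ) := by exact_mod_cast h4
    push_cast at h5
    omega
  refine t345_coherent_of_split h (by omega) ?_ fun φ hφ => ?_
  · rw [n2]
    by_contra hlt
    have h1 : (seqIndD K M K ⁅K, K⁆).card * Nat.card W₁ ≤ 7 * Nat.card W₁ :=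
      Nat.mul_le_mul_right _ (by omega)
    rw [c5] at c1
    obtain ⟨w, hw⟩ : ∃ w, Nat.card W₁ = w + 3 := ⟨Nat.card W₁ - 3, by omega⟩
    have h2 : p = 2 * w + 5 := by omega
    rw [hw] at c1 h1
    rw [h2] at c1
    nlinarith
  · obtain ⟨θ, hθ, -, hk, rfl⟩ := mem_seqIndD_iff.1 hφ
    by_cases h1 : ⁅K, K⁆ ≤ cfker K θ
    · exact Or.inl (mem_seqIndD_iff.2 ⟨θ, hθ, h1, hk, rfl⟩)
    · by_cases h2 : θ ∈ (Finset.univ.erase (1 : Hat W₂)).image (primeTIres M K W₁)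
      · obtain ⟨j, hj, rfl⟩ := Finset.mem_image.1 h2
        exact Or.inr ⟨j, (Finset.mem_erase.1 hj).1, cfInd_prTIres h.prTI j⟩
      · have h3 := Finset.sum_eq_zero_iff.1 s2 θ
          (Finset.mem_sdiff.2 ⟨mem_IrrKerD.2 ⟨hθ, bot_le, h1⟩, h2⟩)
        exact absurd (pow_eq_zero_iff two_ne_zero |>.1 h3) (irr_deg_pos hθ).ne'

/-- In the situation of type V the set `S` is coherent. -/
theorem t345_type5_coherent (h : T345Hyp M K W W₁ W₂ A₀ R) (nil : Group.IsNilpotent K)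
    (hc : NormedTI (sharp K) ⊤ M ∨
      (∃ p : ℕ, p.Prime ∧ p ∣ Nat.card K ∧ Nat.card W₁ ∣ p - 1) ∨
      ∃ p : ℕ, p.Prime ∧ p ∣ Nat.card K ∧ Nat.card (piCoreOf {p} K) = p ^ 3 ∧
        Nat.card W₁ ∣ p + 1) : Coherent M ⊤ (seqIndD K M K ⊥) {1}ᶜ (Dade A₀ R) := by
  rcases hc with ti | hc
  · exact (Sibley_coherence_prDade h.oddM nil ti h.prime h.W₂_le h.dd).congr le_rfl fun φ hφ =>
      (Dade_Ind_of_subset h.dade h.sharp_sub ti
        (zcharD1_seqInd_on h.nsK (seqIndD_subT _ _ _ _) hφ)).symm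
  obtain ⟨R₀, scoh⟩ := h.subcoherent
  have hF : OddFrobQuot K M ⊥ := by
    refine OddFrobQuot.of_sdprod h.oddM h.prTI.sdprod (normal1 M) bot_le (nilMod_bot_iff.2 nil)
      fun w hw hw1 x hx hc => ?_
    rw [sup_bot_eq] at hc ⊢
    exact h.prTI.regular_mod (normalR h.nsK h.nsK) h.W₂_le hw hw1 hx hc
  rcases non_coherent_chief h.nsK h.sol scoh hF with coh | ⟨-, hle, p, hp, ⟨m, hm⟩, -, hnd⟩
  · exact coh
  rw [sup_bot_eq, h.prTI.relIndex_K] at hle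
  rw [h.prTI.relIndex_K] at hnd
  rw [Subgroup.relIndex_bot_left] at hm
  have key : ∀ q : ℕ, q.Prime → q ∣ Nat.card K → q = p := fun q hq hd =>
    (Nat.prime_dvd_prime_iff_eq hq hp).1 (hq.dvd_of_dvd_pow (hm ▸ hd))
  rcases hc with ⟨q, hq, hd, h1⟩ | ⟨q, hq, hd, h1, h2⟩
  · exact absurd (key q hq hd ▸ h1) hnd
  · obtain rfl := key q hq hd
    rw [pcore_pgroup_id (π := {q}) (fun r hr hd => key r hr hd)] at h1
    exact t345_coherent_of_p3 h hq h1 h2 hnd hle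

end Cfsg.Lib.FT
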